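import Mathlib

/-!
# Étale schemes over a field are disjoint unions of spectra of finite separable extensions
-/

universe u

open CategoryTheory CategoryTheory.Limits AlgebraicGeometry Opposite

namespace Groth.Agent.Lib.Helper6.EtField

section Ring

theorem ringHom_quasiFinite_of_etale {R S : Type u} [CommRing R] [CommRing S] (f : R →+* S)
    (hf : f.Etale) : f.QuasiFinite := by
  algebraize [f]
  change Algebra.QuasiFinite R S
  infer_instance

/-- An étale algebra over a field with a one-point spectrum is a field. -/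
theorem bot_isMaximal_of_etale (k B : Type u) [Field k] [CommRing B] [Algebra k B]
    [Algebra.Etale k B] [Nontrivial B] [Subsingleton (PrimeSpectrum B)] :
    (⊥ : Ideal B).IsMaximal := by
  have hred : IsReduced B := Algebra.FormallyUnramified.isReduced_of_field k B
  obtain ⟨M, hM⟩ := Ideal.exists_maximal B
  have hMbot : M = ⊥ := by
    rw [eq_bot_iff, ← Ideal.zero_eq_bot, ← nilradical_eq_zero B, nilradical_eq_sInf]
    refine le_sInf fun J (hJ : J.IsPrime) => ?_
    have h1 : (⟨M, hM.isPrime⟩ : PrimeSpectrum B) = ⟨J, hJ⟩ := Subsingleton.elim _ _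
    exact le_of_eq (congrArg PrimeSpectrum.asIdeal h1)
  rw [← hMbot]
  exact hM

end Ring

section Scheme

theorem locallyQuasiFinite_of_etale {X Y : Scheme.{u}} (f : X ⟶ Y) [Etale f] :
    LocallyQuasiFinite f := by
  rw [HasRingHomProperty.iff_appLE (P := @LocallyQuasiFinite)]
  intro U V e
  exact ringHom_quasiFinite_of_etale _ (HasRingHomProperty.appLE (P := @Etale) f inferInstance U V e)

theorem discreteTopology_of_etale (k : Type u) [Field k] (U : Scheme.{u})
    (φ : U ⟶ Spec (CommRingCat.of k)) [Etale φ] : DiscreteTopology U := by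
  have := locallyQuasiFinite_of_etale φ
  let y : Spec (CommRingCat.of k) := (⊥ : PrimeSpectrum k)
  have h1 := φ.isDiscrete_preimage_singleton y
  have h2 : (φ ⁻¹' {y} : Set U) = Set.univ := by
    ext x
    simp only [Set.mem_preimage, Set.mem_singleton_iff, Set.mem_univ, iff_true]
    exact Subsingleton.elim (α := PrimeSpectrum k) _ _
  rw [h2] at h1
  exact isDiscrete_univ_iff.mp h1

theorem fin_sep (k K : Type u) [Field k] [Field K]
    (g : Spec (CommRingCat.of K) ⟶ Spec (CommRingCat.of k)) [Etale g] :
    letI := (Spec.preimage g).hom.toAlgebra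
    FiniteDimensional k K ∧ Algebra.IsSeparable k K := by
  let := (Spec.preimage g).hom.toAlgebra
  have h1 : Etale (Spec.map (Spec.preimage g)) := by
    rw [Spec.map_preimage]
    infer_instance
  rw [HasRingHomProperty.Spec_iff (P := @Etale)] at h1
  have h2 : Algebra.Etale k K := h1
  exact ⟨Algebra.FormallyUnramified.finite_of_free k K,
    Algebra.FormallyUnramified.isSeparable k K⟩

/-- Around a point of an étale `k`-scheme: an open immersion from the spectrum of a field with
image that point. -/
theorem exists_point_data (k : Type u) [Field k] (U : Scheme.{u})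
    (φ : U ⟶ Spec (CommRingCat.of k)) [Etale φ] (x : U) :
    ∃ (K : Type u) (_ : Field K) (f : Spec (CommRingCat.of K) ⟶ U),
      IsOpenImmersion f ∧ Set.range f = {x} := by
  have hdisc := discreteTopology_of_etale k U φ
  let Ux : U.Opens := ⟨{x}, isOpen_discrete _⟩
  have hsub0 : Set.Subsingleton (Ux : Set U) := Set.subsingleton_singleton
  have hsub : Subsingleton ↥Ux := hsub0.coe_sort
  have hsub' : Subsingleton ↥(Ux.toScheme) := hsub
  have haff : IsAffineOpen Ux := IsAffineOpen.of_subsingleton hsub0
  have : IsAffine Ux.toScheme := haff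
  let B : CommRingCat.{u} := Γ(Ux.toScheme, ⊤)
  let g : Spec B ⟶ Spec (CommRingCat.of k) := Ux.toScheme.isoSpec.inv ≫ Ux.ι ≫ φ
  have hg : Etale g := inferInstance
  let ψ : CommRingCat.of k ⟶ B := Spec.preimage g
  have h1 : Etale (Spec.map ψ) := by
    rw [Spec.map_preimage]
    exact hg
  rw [HasRingHomProperty.Spec_iff (P := @Etale)] at h1
  let : Algebra k B := ψ.hom.toAlgebra
  have h2 : Algebra.Etale k B := h1
  have hsub2 : Subsingleton (PrimeSpectrum B) := by
    have e := Ux.toScheme.isoSpec.hom.homeomorph
    exact (show Subsingleton ↥(Spec B) from e.symm.injective.subsingleton)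
  have hne : Nonempty (PrimeSpectrum B) := by
    have e := Ux.toScheme.isoSpec.hom.homeomorph
    exact ⟨e ⟨x, rfl⟩⟩
  have hnt : Nontrivial B := (PrimeSpectrum.nonempty_iff_nontrivial).mp hne
  have hmax := bot_isMaximal_of_etale k B
  let K := B ⧸ (⊥ : Ideal B)
  let : Field K := Ideal.Quotient.field ⊥
  let e : B ≃+* K := (RingEquiv.quotientBot B).symm
  refine ⟨K, inferInstance, Spec.map e.toCommRingCatIso.hom ≫ Ux.toScheme.isoSpec.inv ≫ Ux.ι,
    inferInstance, ?_⟩
  rw [← Category.assoc, Scheme.Hom.comp_base, TopCat.coe_comp, Set.range_comp,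
    Set.range_eq_univ.mpr, Set.image_univ, Scheme.Opens.range_ι]
  · rfl
  · exact (Spec.map e.toCommRingCatIso.hom ≫ Ux.toScheme.isoSpec.inv).homeomorph.surjective

set_option backward.isDefEq.respectTransparency false in
theorem etale_of_sigma {ι : Type u} (X : ι → Scheme.{u}) {U S : Scheme.{u}} (e : (∐ X) ≅ U)
    (φ : U ⟶ S) (h : ∀ i, Etale (Sigma.ι X i ≫ e.hom ≫ φ)) : Etale φ := by
  have h1 : Etale (e.hom ≫ φ) := by
    rw [IsZariskiLocalAtSource.iff_of_openCover (P := @Etale) (sigmaOpenCover X)]
    intro i
    exact h i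
  have h2 : φ = e.inv ≫ e.hom ≫ φ := by
    rw [Iso.inv_hom_id_assoc]
  rw [h2]
  infer_instance

set_option backward.isDefEq.respectTransparency false in
theorem etale_spec_map_of_isSeparable (k K : Type u) [Field k] [Field K] [Algebra k K]
    [FiniteDimensional k K] [Algebra.IsSeparable k K] :
    Etale (Spec.map (CommRingCat.ofHom (algebraMap k K))) := by
  rw [HasRingHomProperty.Spec_iff (P := @Etale), CommRingCat.hom_ofHom, RingHom.etale_algebraMap]
  have : Algebra.FormallyEtale k K := Algebra.FormallyEtale.of_isSeparable k K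
  have : Algebra.FinitePresentation k K := Algebra.FinitePresentation.of_finiteType.mp inferInstance
  exact {}

end Scheme

end Groth.Agent.Lib.Helper6.EtField
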